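import Groth.Agent.ModSiteFlat.Stalk
import Groth.Agent.PullFlat.Exact

/-!
Locally ringed sites: unit ideals, stalks, inverse images.
-/

set_option backward.isDefEq.respectTransparency false
set_option backward.isDefEq.respectTransparency.types false
set_option autoImplicit false

universe u

open CategoryTheory Limits Opposite

namespace Groth.Agent.SiteLocRing

open PullFlat (Loc)

variable {C : Type u} [SmallCategory C] {J : GrothendieckTopology C} (O : Sheaf J CommRingCat.{u})

lemma res_comp {U V W : C} (g : V ⟶ U) (h : W ⟶ V) (x : O.obj.obj (op U)) :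
    (O.obj.map (h ≫ g).op).hom x = (O.obj.map h.op).hom ((O.obj.map g.op).hom x) :=
  ConcreteCategory.congr_hom (O.obj.map_comp g.op h.op) x

/-- (1) implies (2) -/
theorem cover_inverts_generator
    (h : ∀ (U : C) (f : O.obj.obj (op U)), ∃ S ∈ J U, ∀ ⦃V : C⦄ (g : V ⟶ U), S g →
      IsUnit ((O.obj.map g.op).hom f) ∨ IsUnit ((O.obj.map g.op).hom (1 - f)))
    (U : C) (n : ℕ) (f : Fin n → O.obj.obj (op U)) (hn : 1 ≤ n) (hf : Ideal.span (Set.range f) = ⊤) :
    ∃ S ∈ J U, ∀ ⦃V : C⦄ (g : V ⟶ U), S g → ∃ i, IsUnit ((O.obj.map g.op).hom (f i)) := by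
  classical
  suffices key : ∀ (s : Finset (Fin n)) (U : C) (f a : Fin n → O.obj.obj (op U)), IsUnit (∑ i ∈ s, a i * f i) →
      Loc J U fun V g => (∃ i ∈ s, IsUnit ((O.obj.map g.op).hom (f i))) ∨ IsUnit (0 : O.obj.obj (op V)) by
    obtain ⟨a, ha⟩ := Ideal.mem_span_range_iff_exists_fun.1 ((Ideal.eq_top_iff_one _).1 hf)
    refine (key Finset.univ U f a (by rw [ha]; exact isUnit_one)).mono fun V g hg => ?_
    rcases hg with ⟨i, -, hi⟩ | h0
    · exact ⟨i, hi⟩
    · haveI := subsingleton_of_zero_eq_one (isUnit_zero_iff.1 h0)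
      exact ⟨⟨0, hn⟩, isUnit_of_subsingleton _⟩
  intro s
  induction s using Finset.induction with
  | empty =>
    intro U f a hu
    rw [Finset.sum_empty] at hu
    refine PullFlat.Loc.of_forall fun V g => Or.inr ?_
    have := hu.map (O.obj.map g.op).hom
    rwa [map_zero] at this
  | @insert i s hi ih =>
    intro U f a hu
    rw [Finset.sum_insert hi] at hu
    obtain ⟨e, he⟩ := hu
    obtain ⟨S, hS, hS'⟩ := h U (((e⁻¹ : (O.obj.obj (op U))ˣ) : O.obj.obj (op U)) * (a i * f i))
    refine (PullFlat.Loc.of_mem hS).bind fun V g hg => ?_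
    rcases hS' g hg with hu | hu
    · rw [map_mul, map_mul, ← mul_assoc] at hu
      refine PullFlat.Loc.of_forall fun W g' => Or.inl ⟨i, Finset.mem_insert_self i s, ?_⟩
      rw [res_comp]
      exact (isUnit_of_mul_isUnit_right hu).map _
    · have h1 : IsUnit (∑ j ∈ s, (O.obj.map g.op).hom (a j) * (O.obj.map g.op).hom (f j)) := by
        have h2 : (e : O.obj.obj (op U)) * (1 - ((e⁻¹ : (O.obj.obj (op U))ˣ) : O.obj.obj (op U)) * (a i * f i)) =
            ∑ j ∈ s, a j * f j := by
          rw [mul_sub, mul_one, Units.mul_inv_cancel_left, he]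
          ring
        have h3 := (e.isUnit.map (O.obj.map g.op).hom).mul hu
        rw [← map_mul, h2, map_sum] at h3
        simpa only [map_mul] using h3
      refine (ih V _ _ h1).mono ?_
      rintro W g' (⟨j, hj, hu'⟩ | h0)
      · exact Or.inl ⟨j, Finset.mem_insert_of_mem hj, by rwa [res_comp]⟩
      · exact Or.inr h0

/-- (2) implies (1) -/
theorem cover_inverts_of_generator
    (h : ∀ (U : C) (n : ℕ) (f : Fin n → O.obj.obj (op U)), 1 ≤ n → Ideal.span (Set.range f) = ⊤ →
      ∃ S ∈ J U, ∀ ⦃V : C⦄ (g : V ⟶ U), S g → ∃ i, IsUnit ((O.obj.map g.op).hom (f i)))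
    (U : C) (f : O.obj.obj (op U)) :
    ∃ S ∈ J U, ∀ ⦃V : C⦄ (g : V ⟶ U), S g →
      IsUnit ((O.obj.map g.op).hom f) ∨ IsUnit ((O.obj.map g.op).hom (1 - f)) := by
  obtain ⟨S, hS, hS'⟩ := h U 2 ![f, 1 - f] (by norm_num) ((Ideal.eq_top_iff_one _).2
    (Ideal.mem_span_range_iff_exists_fun.2 ⟨fun _ => 1, by simp [Fin.sum_univ_two]⟩))
  refine ⟨S, hS, fun V g hg => ?_⟩
  obtain ⟨i, hi⟩ := hS' g hg
  fin_cases i
  · exact Or.inl hi
  · exact Or.inr hi

/-- stalks of a locally ringed site are zero or local -/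
theorem stalk_subsingleton_or_local
    (h : ∀ (U : C) (f : O.obj.obj (op U)), ∃ S ∈ J U, ∀ ⦃V : C⦄ (g : V ⟶ U), S g →
      IsUnit ((O.obj.map g.op).hom f) ∨ IsUnit ((O.obj.map g.op).hom (1 - f)))
    (p : GrothendieckTopology.Point.{u} J) :
    Subsingleton (ModSite.stalkRing p O) ∨ IsLocalRing (ModSite.stalkRing p O) := by
  rcases subsingleton_or_nontrivial (ModSite.stalkRing p O) with h0 | h0
  · exact Or.inl h0
  refine Or.inr (IsLocalRing.of_isUnit_or_isUnit_one_sub_self fun a => ?_)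
  obtain ⟨U, x, f, hf⟩ := p.toPresheafFiber_jointly_surjective (P := O.obj) a
  obtain ⟨S, hS, hS'⟩ := h U f
  obtain ⟨V, g, hg, y, hy⟩ := p.jointly_surjective S hS x
  let γ : O.obj.obj (op U) →+* ModSite.stalkRing p O := (p.toPresheafFiber V y O.obj).hom.comp (O.obj.map g.op).hom
  have hγ : ∀ r, γ r = ModSite.germRing p (O := O) U x r := fun r =>
    (ModSiteFlat.germRing_map p (O := O) g y r).trans (by rw [hy])
  have ha : γ f = a := (hγ f).trans hf
  rcases hS' g hg with hu | hu
  · left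
    rw [← ha]
    exact hu.map (p.toPresheafFiber V y O.obj).hom
  · right
    have hu' : IsUnit (γ (1 - f)) := hu.map (p.toPresheafFiber V y O.obj).hom
    rwa [map_sub, map_one, ha] at hu'

/-- with enough points, local stalks give covers inverting `f` or `1 - f` -/
theorem cover_inverts_of_stalks [GrothendieckTopology.HasEnoughPoints.{u} J]
    (h : ∀ p : GrothendieckTopology.Point.{u} J,
      Subsingleton (ModSite.stalkRing p O) ∨ IsLocalRing (ModSite.stalkRing p O))
    (U : C) (f : O.obj.obj (op U)) :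
    ∃ S ∈ J U, ∀ ⦃V : C⦄ (g : V ⟶ U), S g →
      IsUnit ((O.obj.map g.op).hom f) ∨ IsUnit ((O.obj.map g.op).hom (1 - f)) := by
  obtain ⟨P, -, hP⟩ := GrothendieckTopology.HasEnoughPoints.exists_objectProperty.{u} J
  let S : Sieve U :=
    { arrows := fun V g => IsUnit ((O.obj.map g.op).hom f) ∨ IsUnit ((O.obj.map g.op).hom (1 - f))
      downward_closed := by
        rintro V W g hg q
        rw [res_comp, res_comp]
        exact hg.imp (fun hu => hu.map _) fun hu => hu.map _ }
  refine ⟨S, ?_, fun V g hg => hg⟩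
  let ι := Σ V : C, {g : V ⟶ U // S g}
  refine J.superset_covering (S := Sieve.ofArrows (fun i : ι => i.1) (fun i => i.2.1)) ?_ ?_
  · rw [Sieve.generate_le_iff, Presieve.ofArrows_le_iff]
    exact fun i => i.2.2
  rw [hP.jointly_reflect_ofArrows_mem]
  intro Φ x
  let q := Φ.obj
  suffices key : ∀ r : O.obj.obj (op U), IsUnit (ModSite.germRing q (O := O) U x r) →
      ∃ (V : C) (g : V ⟶ U) (v : q.fiber.obj V), q.fiber.map g v = x ∧ IsUnit ((O.obj.map g.op).hom r) by
    have : IsUnit (ModSite.germRing q (O := O) U x f) ∨ IsUnit (ModSite.germRing q (O := O) U x (1 - f)) := by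
      rcases h q with h0 | h0
      · exact Or.inl (isUnit_of_subsingleton _)
      · refine (IsLocalRing.isUnit_or_isUnit_one_sub_self (ModSite.germRing q (O := O) U x f)).imp id fun hu => ?_
        rwa [show ModSite.germRing q (O := O) U x (1 - f) = 1 - ModSite.germRing q (O := O) U x f from
          (map_sub (q.toPresheafFiber U x O.obj).hom 1 f).trans (by rw [map_one])]
    rcases this with hu | hu
    · obtain ⟨V, g, v, hv, hu⟩ := key f hu
      exact ⟨⟨V, g, Or.inl hu⟩, v, hv⟩
    · obtain ⟨V, g, v, hv, hu⟩ := key _ hu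
      exact ⟨⟨V, g, Or.inr hu⟩, v, hv⟩
  intro r hr
  obtain ⟨b, hb⟩ := isUnit_iff_exists_inv.1 hr
  obtain ⟨W₀, w₀, b₀, hb₀⟩ := q.toPresheafFiber_jointly_surjective (P := O.obj) b
  obtain ⟨W, w, hW⟩ := ModSiteFlat.exists_common q (Finset.univ : Finset Bool)
    (fun i => if i then U else W₀) (fun i => match i with | true => x | false => w₀)
  obtain ⟨g₁, hg₁⟩ := hW true (Finset.mem_univ _)
  obtain ⟨g₀, hg₀⟩ := hW false (Finset.mem_univ _)
  change W ⟶ U at g₁
  change W ⟶ W₀ at g₀
  change q.fiber.map g₁ w = x at hg₁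
  change q.fiber.map g₀ w = w₀ at hg₀
  have hone : (q.toPresheafFiber W w O.obj).hom ((O.obj.map g₁.op).hom r * (O.obj.map g₀.op).hom b₀) =
      (q.toPresheafFiber W w O.obj).hom 1 := by
    rw [map_mul, map_one, ← hb]
    refine congrArg₂ (· * ·) ((ModSiteFlat.germRing_map q (O := O) g₁ w r).trans (by rw [hg₁]))
      ((ModSiteFlat.germRing_map q (O := O) g₀ w b₀).trans (by rw [hg₀]; exact hb₀))
  obtain ⟨V, g, v, hv, he⟩ := (q.toPresheafFiber_eq_iff' W w _ _).mp hone
  refine ⟨V, g ≫ g₁, v, by rw [Functor.map_comp, ← hg₁, ← hv]; rfl, ?_⟩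
  change (O.obj.map g.op).hom _ = (O.obj.map g.op).hom _ at he
  rw [map_mul, map_one] at he
  rw [res_comp]
  exact IsUnit.of_mul_eq_one _ he

section Inverse

variable {D : Type u} [SmallCategory D] {K : GrothendieckTopology D} {O_C : Sheaf J CommRingCat.{u}}
  {O_D : Sheaf K CommRingCat.{u}}

/-- inverse images of locally ringed sites are locally ringed -/
theorem isLocallyRinged_invRing (f : ModSite.RMor O_C O_D) (hD : ModSite.IsLocallyRinged K O_D) :
    ModSite.IsLocallyRinged J f.invRing := by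
  haveI : PreservesFiniteLimits (PullFlat.pb J K f.fn) := f.exact
  let ρ : ∀ {U : C} {W : D}, (U ⟶ f.fn.obj W) → (O_D.obj.obj (op W) →+* f.invRing.obj.obj (op U)) := fun {U W} k =>
    (f.invRing.obj.map k.op).hom.comp ((PullRing.unitR J f.fn O_D).hom.app (op W)).hom
  refine ⟨fun U x => ?_, fun U h0 => ?_⟩
  · refine (PullRing.invRing_loc_surj J f.fn O_D x).bind ?_
    rintro U₁ g ⟨W, k, m, hm⟩
    obtain ⟨S, hS, hS'⟩ := hD.1 W m
    refine (PullFlat.loc_lift f.fn k hS).mono ?_
    rintro U₂ g' ⟨W', r, k', hr, hk'⟩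
    have hx : (f.invRing.obj.map (g' ≫ g).op).hom x = ρ k' ((O_D.obj.map r.op).hom m) := by
      refine (res_comp f.invRing g g' x).trans ?_
      refine (congrArg (f.invRing.obj.map g'.op).hom hm).trans ?_
      refine (PullRing.im_res _ _ g' k m).trans ?_
      exact ((PullRing.im_map _ _ k' r m).trans (by rw [hk'])).symm
    rcases hS' r hr with hu | hu
    · left
      rw [hx]
      exact hu.map (ρ k')
    · right
      rw [map_sub, map_one, hx, ← map_one (ρ k'), ← map_sub]
      rw [map_sub, map_one] at hu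
      exact hu.map (ρ k')
  · have h1 : PullFlat.Loc J U fun _ _ => False := by
      refine (PullFlat.loc_nonempty (K := K) f.fn U).bind ?_
      rintro U₁ g ⟨W, ⟨k⟩⟩
      have h' := congrArg (f.invRing.obj.map g.op).hom h0
      rw [map_zero, map_one] at h'
      refine (PullRing.invRing_loc_inj J f.fn O_D k 0 1 ((map_zero (ρ k)).trans (h'.trans (map_one (ρ k)).symm))).bind ?_
      rintro U₂ g' ⟨W', r, k', -, hr⟩
      rw [map_zero, map_one] at hr
      exact (PullFlat.loc_lift f.fn k' (hD.2 W' hr)).mono fun U₃ g'' ⟨_, _, _, hr', _⟩ => (hr' : False).elim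
    obtain ⟨S, hS, hS'⟩ := h1
    rwa [show (⊥ : Sieve U) = S from le_antisymm bot_le fun V g hg => (hS' g hg).elim]

end Inverse

end Groth.Agent.SiteLocRing
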